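import Mathlib
import Cfsg.Agent.Lib.Helper10.M23H2.Setting

set_option autoImplicit false

/-!
Leaf LF1 of `S2649` (helper10's market): the algebra of the linear forms coded by bit masks
(`val`, `blk`, `pack`, `xorL`) and the values of the symbolic vectors `permB`, `tailB`, `mB`.
-/

namespace Cfsg.Agent.Lib.Helper4.M23H2Leaf

open Cfsg Cfsg.Agent.Lib.Helper3.Golay Cfsg.Agent.Lib.Helper10.M23H2

theorem val_zero (a : ℕ → ZMod 2) (nv : ℕ) : val a nv 0 = 0 := by
  unfold val
  apply Finset.sum_eq_zero
  intro i _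
  rw [Nat.zero_testBit]
  rfl

theorem val_xor (a : ℕ → ZMod 2) (nv f g : ℕ) :
    val a nv (f ^^^ g) = val a nv f + val a nv g := by
  unfold val
  rw [← Finset.sum_add_distrib]
  apply Finset.sum_congr rfl
  intro i _
  rw [Nat.testBit_xor]
  cases f.testBit i <;> cases g.testBit i
  · simp
  · simp
  · simp
  · simp only [Bool.xor_self, Bool.false_eq_true, if_false, if_true]
    exact (CharTwo.add_self_eq_zero (a i)).symm

theorem val_eq_zero_of_testBit (a : ℕ → ZMod 2) (nv f : ℕ)
    (h : ∀ i < nv, f.testBit i = false) : val a nv f = 0 := by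
  unfold val
  apply Finset.sum_eq_zero
  intro i hi
  rw [h i (Finset.mem_range.mp hi)]
  rfl

theorem val_congr (a : ℕ → ZMod 2) (nv f g : ℕ)
    (h : ∀ i < nv, f.testBit i = g.testBit i) : val a nv f = val a nv g := by
  unfold val
  apply Finset.sum_congr rfl
  intro i hi
  rw [h i (Finset.mem_range.mp hi)]

theorem val_mod (a : ℕ → ZMod 2) {nv : ℕ} (hnv : nv ≤ bw) (f : ℕ) :
    val a nv (f % 2 ^ bw) = val a nv f := by
  apply val_congr
  intro i hi
  rw [Nat.testBit_mod_two_pow]
  have : i < bw := lt_of_lt_of_le hi hnv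
  simp [this]

theorem val_two_pow_lt (a : ℕ → ZMod 2) {nv k : ℕ} (hk : k < nv) : val a nv (2 ^ k) = a k := by
  unfold val
  rw [Finset.sum_eq_single k]
  · rw [Nat.testBit_two_pow_self]
    rfl
  · intro i _ hik
    rw [Nat.testBit_two_pow]
    have : ¬ k = i := fun h => hik h.symm
    simp [this]
  · intro h
    exact absurd (Finset.mem_range.mpr hk) h

theorem val_two_pow_ge (a : ℕ → ZMod 2) {nv k : ℕ} (hk : nv ≤ k) : val a nv (2 ^ k) = 0 := by
  apply val_eq_zero_of_testBit
  intro i hi
  rw [Nat.testBit_two_pow]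
  have : ¬ k = i := by omega
  simp [this]

theorem xorL_nil : xorL [] = 0 := rfl

theorem xorL_append_singleton (l : List ℕ) (x : ℕ) : xorL (l ++ [x]) = xorL l ^^^ x := by
  unfold xorL
  rw [List.foldl_append]
  rfl

theorem val_xorL_map_range (a : ℕ → ZMod 2) (nv : ℕ) (F : ℕ → ℕ) (n : ℕ) :
    val a nv (xorL ((List.range n).map F)) = ∑ j ∈ Finset.range n, val a nv (F j) := by
  induction n with
  | zero =>
    rw [List.range_zero, List.map_nil, xorL_nil, val_zero, Finset.range_zero, Finset.sum_empty]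
  | succ n ih =>
    rw [List.range_succ, List.map_append, List.map_singleton, xorL_append_singleton, val_xor, ih,
      Finset.sum_range_succ]

theorem testBit_xorL_map_range_false (F : ℕ → ℕ) (n i : ℕ)
    (h : ∀ j < n, (F j).testBit i = false) : (xorL ((List.range n).map F)).testBit i = false := by
  induction n with
  | zero =>
    rw [List.range_zero, List.map_nil, xorL_nil, Nat.zero_testBit]
  | succ n ih =>
    rw [List.range_succ, List.map_append, List.map_singleton, xorL_append_singleton,
      Nat.testBit_xor, ih (fun j hj => h j (Nat.lt_succ_of_lt hj)), h n (Nat.lt_succ_self n)]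
    rfl

theorem blk_zero (q : ℕ) : blk 0 q = 0 := by
  unfold blk
  rw [Nat.zero_shiftRight, Nat.zero_mod]

theorem blk_xor (x y q : ℕ) : blk (x ^^^ y) q = blk x q ^^^ blk y q := by
  unfold blk
  rw [Nat.shiftRight_xor_distrib, Nat.xor_mod_two_pow]

theorem blk_mod (sv q : ℕ) : blk sv q % 2 ^ bw = blk sv q := by
  unfold blk
  rw [Nat.mod_mod]

/-- the packed vector with the first `n` blocks -/
def packK (g : ℕ → ℕ) (n : ℕ) : ℕ :=
  (List.range n).foldl (fun acc q => acc ||| ((g q % 2 ^ bw) <<< (bw * q))) 0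

theorem pack_eq_packK (g : ℕ → ℕ) : pack g = packK g 24 := rfl

theorem packK_succ (g : ℕ → ℕ) (n : ℕ) :
    packK g (n + 1) = packK g n ||| ((g n % 2 ^ bw) <<< (bw * n)) := by
  unfold packK
  rw [List.range_succ, List.foldl_append]
  rfl

theorem bw_pos : 0 < bw := by unfold bw; norm_num

theorem testBit_packK (g : ℕ → ℕ) (n q j : ℕ) (hj : j < bw) :
    (packK g n).testBit (bw * q + j) = (decide (q < n) && (g q).testBit j) := by
  induction n with
  | zero =>
    have : packK g 0 = 0 := rfl
    rw [this, Nat.zero_testBit]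
    simp
  | succ n ih =>
    rw [packK_succ, Nat.testBit_or, ih, Nat.testBit_shiftLeft, Nat.testBit_mod_two_pow]
    rcases lt_trichotomy q n with hq | hq | hq
    · have h1 : ¬ (bw * q + j ≥ bw * n) := by
        have : bw * (q + 1) ≤ bw * n := Nat.mul_le_mul_left bw hq
        rw [Nat.mul_add, Nat.mul_one] at this
        omega
      have h2 : q < n + 1 := by omega
      simp [hq, h1, h2]
    · subst hq
      have h1 : bw * q + j ≥ bw * q := Nat.le_add_right _ _
      have h3 : bw * q + j - bw * q = j := by omega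
      simp [h1, h3, hj]
    · have h0 : ¬ q < n := by omega
      have h2 : ¬ q < n + 1 := by omega
      have h3 : ¬ (bw * q + j - bw * n < bw) := by
        have : bw * (n + 1) ≤ bw * q := Nat.mul_le_mul_left bw hq
        rw [Nat.mul_add, Nat.mul_one] at this
        omega
      simp [h0, h2, h3]

theorem blk_pack (g : ℕ → ℕ) {q : ℕ} (hq : q < 24) : blk (pack g) q = g q % 2 ^ bw := by
  apply Nat.eq_of_testBit_eq
  intro j
  unfold blk
  rw [Nat.testBit_mod_two_pow, Nat.testBit_mod_two_pow, Nat.testBit_shiftRight]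
  by_cases hj : j < bw
  · rw [pack_eq_packK, testBit_packK g 24 q j hj]
    simp [hq]
  · simp [hj]

theorem evalSV_apply (a : ℕ → ZMod 2) (nv sv : ℕ) (p : GolayPt) :
    evalSV a nv sv p = val a nv (blk sv (idx p)) := rfl

theorem evalSV_zero (a : ℕ → ZMod 2) (nv : ℕ) : evalSV a nv 0 = 0 := by
  funext p
  rw [evalSV_apply, blk_zero, val_zero]
  rfl

theorem evalSV_xor (a : ℕ → ZMod 2) (nv x y : ℕ) :
    evalSV a nv (x ^^^ y) = evalSV a nv x + evalSV a nv y := by
  funext p
  rw [Pi.add_apply, evalSV_apply, evalSV_apply, evalSV_apply, blk_xor, val_xor]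

theorem evalSV_permB (a : ℕ → ZMod 2) {nv : ℕ} (hnv : nv ≤ bw) (f : ℕ → ℕ) (τ : GolayPt → GolayPt)
    (hf : ∀ p, f (idx p) = idx (τ p)) (sv : ℕ) :
    evalSV a nv (permB f sv) = evalSV a nv sv ∘ τ := by
  funext p
  rw [Function.comp_apply, evalSV_apply, evalSV_apply]
  unfold permB
  rw [blk_pack _ (idx_lt p)]
  show val a nv (blk sv (f (idx p)) % 2 ^ bw) = _
  rw [blk_mod, hf]

theorem evalSV_pack (a : ℕ → ZMod 2) {nv : ℕ} (hnv : nv ≤ bw) (g : ℕ → ℕ) (p : GolayPt) :
    evalSV a nv (pack g) p = val a nv (g (idx p)) := by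
  rw [evalSV_apply, blk_pack _ (idx_lt p), val_mod a hnv]

theorem evalSV_tailB (a : ℕ → ZMod 2) {nv : ℕ} (hnv : nv ≤ bw) (B : List ℕ) (dim r : ℕ)
    (hr : dim * r + dim ≤ nv) :
    evalSV a nv (tailB B dim r) =
      fun p => ∑ j ∈ Finset.range dim, a (dim * r + j) * wordOf (B.getD j 0) p := by
  funext p
  unfold tailB
  rw [evalSV_pack a hnv]
  show val a nv (xorL ((List.range dim).map
    (fun j => bif (B.getD j 0).testBit (idx p) then 2 ^ (dim * r + j) else 0))) = _
  rw [val_xorL_map_range]
  apply Finset.sum_congr rfl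
  intro j hj
  have hj' : j < dim := Finset.mem_range.mp hj
  rw [wordOf_apply]
  cases (B.getD j 0).testBit (idx p) with
  | false =>
    show val a nv 0 = _
    rw [val_zero]
    simp
  | true =>
    show val a nv (2 ^ (dim * r + j)) = _
    rw [val_two_pow_lt a (by omega)]
    simp

theorem evalSV_tailB_big (a : ℕ → ZMod 2) {nv : ℕ} (B : List ℕ) (dim r : ℕ) (hr : nv ≤ dim * r) :
    evalSV a nv (tailB B dim r) = 0 := by
  funext p
  unfold tailB
  rw [evalSV_apply, blk_pack _ (idx_lt p)]
  show val a nv (xorL ((List.range dim).map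
    (fun j => bif (B.getD j 0).testBit (idx p) then 2 ^ (dim * r + j) else 0)) % 2 ^ bw) = 0
  apply val_eq_zero_of_testBit
  intro i hi
  rw [Nat.testBit_mod_two_pow, testBit_xorL_map_range_false]
  · simp
  · intro j _
    cases (B.getD j 0).testBit (idx p) with
    | false => exact Nat.zero_testBit i
    | true =>
      show (2 ^ (dim * r + j)).testBit i = false
      rw [Nat.testBit_two_pow]
      have : ¬ dim * r + j = i := by omega
      simp [this]

theorem evalSV_mB (a : ℕ → ZMod 2) {nv : ℕ} (hnv : nv ≤ bw) (B : List ℕ) (dim : ℕ)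
    (Sf : List (List ℕ)) (i : ℕ) :
    evalSV a nv (mB B dim Sf i) =
      fun p => ∑ j ∈ Finset.range dim,
        val a nv ((Sf.getD i []).getD j 0) * wordOf (B.getD j 0) p := by
  funext p
  unfold mB
  rw [evalSV_pack a hnv]
  show val a nv (xorL ((List.range dim).map
    (fun j => bif (B.getD j 0).testBit (idx p) then (Sf.getD i []).getD j 0 else 0))) = _
  rw [val_xorL_map_range]
  apply Finset.sum_congr rfl
  intro j _
  rw [wordOf_apply]
  cases (B.getD j 0).testBit (idx p) with
  | false =>
    show val a nv 0 = _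
    rw [val_zero]
    simp
  | true =>
    show val a nv ((Sf.getD i []).getD j 0) = _
    simp

end Cfsg.Agent.Lib.Helper4.M23H2Leaf
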