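import Mathlib
import Cfsg.Agent.Lib.Helper10.M23H2.Dual
import Cfsg.Agent.Lib.Helper10.M23H2.Coords
import Cfsg.Agent.Lib.Helper4.M23H2.LF1

set_option autoImplicit false

/-!
Leaf D2 of `S2651` (helper10's market): duality for the Golay code, `C0^⊥ = C + ⟨e_∞⟩` where `C0`
is spanned by the masks `B0`.
-/

namespace Cfsg.Agent.Lib.Helper4.M23H2Leaf

open Cfsg Cfsg.Agent.Lib.Helper3.Golay Cfsg.Agent.Lib.Helper10.M23H2

/-! ### linearity of `dotM` -/

theorem dotM_add (u v : GolayPt → ZMod 2) (b : ℕ) : dotM (u + v) b = dotM u b + dotM v b := by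
  unfold dotM
  rw [← Finset.sum_add_distrib]
  apply Finset.sum_congr rfl
  intro q _
  cases b.testBit q <;> simp

theorem dotM_zero (b : ℕ) : dotM 0 b = 0 := by
  unfold dotM
  apply Finset.sum_eq_zero
  intro q _
  cases b.testBit q <;> simp

theorem dotM_smul (c : ZMod 2) (u : GolayPt → ZMod 2) (b : ℕ) : dotM (c • u) b = c * dotM u b := by
  unfold dotM
  rw [Finset.mul_sum]
  apply Finset.sum_congr rfl
  intro q _
  cases b.testBit q <;> simp

theorem dotM_sum {ι : Type*} (s : Finset ι) (f : ι → GolayPt → ZMod 2) (b : ℕ) :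
    dotM (∑ i ∈ s, f i) b = ∑ i ∈ s, dotM (f i) b := by
  classical
  induction s using Finset.induction_on with
  | empty => rw [Finset.sum_empty, Finset.sum_empty, dotM_zero]
  | insert i s hi ih => rw [Finset.sum_insert hi, Finset.sum_insert hi, dotM_add, ih]

/-- the pairing with a unit vector -/
theorem dotM_wordOf_two_pow {q : ℕ} (hq : q < 24) (b : ℕ) :
    dotM (wordOf (2 ^ q)) b = if b.testBit q then 1 else 0 := by
  unfold dotM
  rw [Finset.sum_eq_single q]
  · rw [wordOf_apply, idx_pt hq, Nat.testBit_two_pow_self]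
    simp
  · intro q' hq' hne
    rw [wordOf_apply, idx_pt (Finset.mem_range.mp hq'), Nat.testBit_two_pow]
    have : ¬ q = q' := fun h => hne h.symm
    simp [this]
  · intro h
    exact absurd (Finset.mem_range.mpr hq) h

/-- the parity formula -/
theorem dotM_wordOf (m b : ℕ) : dotM (wordOf m) b = ((pc24 (m &&& b) : ℕ) : ZMod 2) := by
  rw [pc24_eq, ← sum_testBit_eq_pcAux, Nat.cast_sum]
  unfold dotM
  apply Finset.sum_congr rfl
  intro q hq
  rw [wordOf_apply, idx_pt (Finset.mem_range.mp hq), Nat.testBit_and]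
  cases m.testBit q <;> cases b.testBit q <;> simp

/-! ### the code is orthogonal to `B0` -/

/-- the parity check -/
def parB (m b : ℕ) : Bool := Nat.beq (pc24 (m &&& b) % 2) 0

theorem dotM_eq_zero_of_parB {m b : ℕ} (h : parB m b = true) : dotM (wordOf m) b = 0 := by
  rw [dotM_wordOf, ZMod.natCast_eq_zero_iff]
  exact Nat.dvd_of_mod_eq_zero (Nat.eq_of_beq_eq_true h)

set_option maxRecDepth 100000 in
set_option maxHeartbeats 0 in
theorem cert_dual : allBelow 4096 (fun c => B0.all (fun b => parB (codeMask c) b)) = true := by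
  decide +kernel

theorem single_none_eq : (Pi.single none 1 : GolayPt → ZMod 2) = wordOf (2 ^ 23) := by
  funext p
  rw [wordOf_apply, Nat.testBit_two_pow, Pi.single_apply]
  cases p with
  | none => simp [idx]
  | some x =>
    have h1 : idx (some x : GolayPt) = x.val := rfl
    have h2 : x.val < 23 := ZMod.val_lt x
    have h3 : ¬ (23 = idx (some x : GolayPt)) := by rw [h1]; omega
    simp [h3]

theorem B0_testBit23 : ∀ b ∈ B0, b.testBit 23 = false := by
  intro b hb
  have h := List.all_eq_true.mp cert_B0 _ hb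
  simp only [Bool.and_eq_true, Bool.not_eq_true'] at h
  exact h.1.2

theorem dotM_single_none {b : ℕ} (hb : b ∈ B0) : dotM (Pi.single none 1) b = 0 := by
  rw [single_none_eq, dotM_wordOf_two_pow (by norm_num), B0_testBit23 b hb]
  rfl

theorem dot_B0_of_code (w : GolayPt → ZMod 2) (h : w ∈ golayCode) : ∀ b ∈ B0, dotM w b = 0 := by
  intro b hb
  obtain ⟨c, hc, rfl⟩ := (mem_golayCode_iff w).mp h
  have h1 := (allBelow_iff _ _).mp cert_dual c hc
  exact dotM_eq_zero_of_parB (List.all_eq_true.mp h1 b hb)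

theorem add_add_cancel_char2 (w e : GolayPt → ZMod 2) : w + e + e = w := by
  funext p
  rw [Pi.add_apply, Pi.add_apply, add_assoc, CharTwo.add_self_eq_zero, add_zero]

theorem dot_B0_of_mem (w : GolayPt → ZMod 2)
    (h : w ∈ golayCode ∨ w + Pi.single none 1 ∈ golayCode) : ∀ b ∈ B0, dotM w b = 0 := by
  rcases h with h | h
  · exact dot_B0_of_code w h
  · intro b hb
    have h1 := dot_B0_of_code _ h b hb
    rw [dotM_add, dotM_single_none hb, add_zero] at h1
    exact h1

/-! ### the converse -/

/-- membership in `C + ⟨e_∞⟩` -/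
def InC' (w : GolayPt → ZMod 2) : Prop := w ∈ golayCode ∨ w + Pi.single none 1 ∈ golayCode

theorem inC'_zero : InC' 0 := Or.inl golayCode.zero_mem

theorem inC'_add {u v : GolayPt → ZMod 2} (hu : InC' u) (hv : InC' v) : InC' (u + v) := by
  rcases hu with hu | hu <;> rcases hv with hv | hv
  · exact Or.inl (golayCode.add_mem hu hv)
  · right
    rw [add_assoc]
    exact golayCode.add_mem hu hv
  · right
    have : u + v + Pi.single none 1 = (u + Pi.single none 1) + v := by abel
    rw [this]
    exact golayCode.add_mem hu hv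
  · left
    have : u + v = (u + Pi.single none 1) + (v + Pi.single none 1) := by
      have e : (u + Pi.single none 1) + (v + Pi.single none 1) =
          (u + v) + Pi.single none 1 + Pi.single none 1 := by abel
      rw [e, add_add_cancel_char2]
    rw [this]
    exact golayCode.add_mem hu hv

theorem inC'_smul (c : ZMod 2) {u : GolayPt → ZMod 2} (hu : InC' u) : InC' (c • u) := by
  have : ∀ x : ZMod 2, x = 0 ∨ x = 1 := by decide
  rcases this c with h | h
  · rw [h, zero_smul]
    exact inC'_zero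
  · rw [h, one_smul]
    exact hu

theorem inC'_sum {ι : Type*} (s : Finset ι) (f : ι → GolayPt → ZMod 2) (h : ∀ i ∈ s, InC' (f i)) :
    InC' (∑ i ∈ s, f i) :=
  Finset.sum_induction f InC' (fun _ _ => inC'_add) inC'_zero h

/-- the mask of `e_q + ∑ j, B0[j].testBit q • e_{j+1}` -/
def rmask (q : ℕ) : ℕ :=
  2 ^ q ^^^ xorL ((List.range 11).map (fun j => bif (B0.getD j 0).testBit q then 2 ^ (j + 1) else 0))

/-- the test for `C + ⟨e_∞⟩` on masks -/
def inC'B (m : ℕ) : Bool :=
  Nat.blt m 16777216 && (Nat.beq (codeMask (m % 4096)) m ||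
    Nat.beq (codeMask ((m ^^^ 2 ^ 23) % 4096)) (m ^^^ 2 ^ 23))

set_option maxRecDepth 100000 in
theorem cert_rmask : allBelow 24 (fun q => inC'B (rmask q)) = true := by
  decide +kernel

theorem inC'_of_inC'B {m : ℕ} (h : inC'B m = true) : InC' (wordOf m) := by
  unfold inC'B at h
  rw [Bool.and_eq_true, Bool.or_eq_true] at h
  obtain ⟨h1, h2⟩ := h
  have hm : m < 2 ^ 24 := Nat.blt_eq.mp h1
  rcases h2 with h2 | h2
  · exact Or.inl ((wordOf_mem_iff hm).mpr (Nat.eq_of_beq_eq_true h2))
  · right
    rw [single_none_eq, ← wordOf_xor]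
    have hm' : m ^^^ 2 ^ 23 < 2 ^ 24 := Nat.xor_lt_two_pow hm (by norm_num)
    exact (wordOf_mem_iff hm').mpr (Nat.eq_of_beq_eq_true h2)

theorem wordOf_xorL_map_range (F : ℕ → ℕ) (n : ℕ) :
    wordOf (xorL ((List.range n).map F)) = ∑ j ∈ Finset.range n, wordOf (F j) := by
  induction n with
  | zero =>
    rw [List.range_zero, List.map_nil, xorL_nil, wordOf_zero, Finset.range_zero, Finset.sum_empty]
  | succ n ih =>
    rw [List.range_succ, List.map_append, List.map_singleton, xorL_append_singleton, wordOf_xor, ih,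
      Finset.sum_range_succ]

theorem wordOf_rmask (q : ℕ) :
    wordOf (rmask q) = wordOf (2 ^ q) +
      ∑ j ∈ Finset.range 11, (if (B0.getD j 0).testBit q then (1 : ZMod 2) else 0) •
        wordOf (2 ^ (j + 1)) := by
  unfold rmask
  rw [wordOf_xor, wordOf_xorL_map_range]
  congr 1
  apply Finset.sum_congr rfl
  intro j _
  cases (B0.getD j 0).testBit q with
  | false =>
    show wordOf 0 = _
    rw [wordOf_zero]
    simp
  | true =>
    show wordOf (2 ^ (j + 1)) = _
    simp

/-- the decomposition of a word into unit vectors -/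
theorem eq_sum_units (w : GolayPt → ZMod 2) :
    w = ∑ q ∈ Finset.range 24, w (pt q) • wordOf (2 ^ q) := by
  funext p
  rw [Finset.sum_apply, Finset.sum_eq_single (idx p)]
  · rw [Pi.smul_apply, wordOf_apply, Nat.testBit_two_pow_self, pt_idx]
    simp
  · intro q _ hq
    rw [Pi.smul_apply, wordOf_apply, Nat.testBit_two_pow]
    simp [hq]
  · intro h
    exact absurd (Finset.mem_range.mpr (idx_lt p)) h

/-- the key identity -/
theorem sum_rmask (w : GolayPt → ZMod 2) :
    ∑ q ∈ Finset.range 24, w (pt q) • wordOf (rmask q) =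
      w + ∑ j ∈ Finset.range 11, dotM w (B0.getD j 0) • wordOf (2 ^ (j + 1)) := by
  have h1 : ∀ q, w (pt q) • wordOf (rmask q) = w (pt q) • wordOf (2 ^ q) +
      ∑ j ∈ Finset.range 11, (if (B0.getD j 0).testBit q then w (pt q) else 0) •
        wordOf (2 ^ (j + 1)) := by
    intro q
    rw [wordOf_rmask, smul_add, Finset.smul_sum]
    congr 1
    apply Finset.sum_congr rfl
    intro j _
    rw [smul_smul]
    congr 1
    cases (B0.getD j 0).testBit q <;> simp
  simp_rw [h1]
  rw [Finset.sum_add_distrib]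
  have h2 := eq_sum_units w
  rw [← h2]
  conv_lhs =>
    arg 2
    rw [Finset.sum_comm]
  refine congrArg (fun x => w + x) (Finset.sum_congr rfl fun j _ => ?_)
  rw [← Finset.sum_smul]
  unfold dotM
  with_reducible rfl

theorem B0_getD_mem {j : ℕ} (hj : j < 11) : B0.getD j 0 ∈ B0 := by
  rw [List.getD_eq_getElem _ _ (by rw [B0_length]; exact hj)]
  exact List.getElem_mem _

theorem mem_of_dot_B0 (w : GolayPt → ZMod 2) (h : ∀ b ∈ B0, dotM w b = 0) :
    w ∈ golayCode ∨ w + Pi.single none 1 ∈ golayCode := by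
  have h1 := sum_rmask w
  have h2 : ∑ j ∈ Finset.range 11, dotM w (B0.getD j 0) • wordOf (2 ^ (j + 1)) = 0 := by
    apply Finset.sum_eq_zero
    intro j hj
    rw [h _ (B0_getD_mem (Finset.mem_range.mp hj)), zero_smul]
  rw [h2, add_zero] at h1
  have h3 : InC' (∑ q ∈ Finset.range 24, w (pt q) • wordOf (rmask q)) := by
    apply inC'_sum
    intro q hq
    apply inC'_smul
    exact inC'_of_inC'B ((allBelow_iff _ _).mp cert_rmask q (Finset.mem_range.mp hq))
  rw [h1] at h3
  exact h3

/-! ### the dual bases -/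

theorem B0_testBit_succ : ∀ j < 11, ∀ k < 11, (B0.getD j 0).testBit (k + 1) = decide (j = k) := by
  decide +kernel

theorem U0_getD {k : ℕ} (hk : k < 11) : U0.getD k 0 = 2 ^ (k + 1) := by
  unfold U0
  rw [List.getD_eq_getElem _ _ (by rw [List.length_map, List.length_range]; exact hk),
    List.getElem_map, List.getElem_range]

theorem dotM_U0_B0 (j k : ℕ) (hj : j < 11) (hk : k < 11) :
    dotM (wordOf (U0.getD k 0)) (B0.getD j 0) = if j = k then 1 else 0 := by
  rw [U0_getD hk, dotM_wordOf_two_pow (by omega), B0_testBit_succ j hj k hk]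
  by_cases hjk : j = k <;> simp [hjk]

end Cfsg.Agent.Lib.Helper4.M23H2Leaf
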