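import Mathlib
import Cfsg.Agent.Lib.Helper10.M23H2.Setting

set_option autoImplicit false

/-!
Leaf LG of `S2649` (helper10's market): the normal words, and the closure of a set of generators
as the set of values of a list of words closed under right multiplication by the generators.
-/

namespace Cfsg.Agent.Lib.Helper4.M23H2Leaf

open Cfsg Cfsg.Agent.Lib.Helper3.Golay Cfsg.Agent.Lib.Helper10.M23H2
open Cfsg.Agent.Lib.Helper3.Fus (eqB nodupB)

theorem nwords_nil : [] ∈ nwords := by
  unfold nwords
  rw [List.mem_map]
  exact ⟨0, List.mem_range.mpr (by norm_num), by decide⟩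

theorem nwords_length : nwords.length = 128 := by
  unfold nwords
  rw [List.length_map, List.length_range]

/-- the exponent vector of a normal word -/
def wcode (w : List ℕ) : ℕ := w.foldl (fun acc i => acc + 2 ^ (6 - i)) 0

theorem wcode_nword : ∀ e < 128,
    wcode ((List.range 7).filter (fun i => e.testBit (6 - i))) = e := by
  decide +kernel

theorem nwords_nodup : nwords.Nodup := by
  unfold nwords
  apply List.Nodup.map_on _ List.nodup_range
  intro e he e' he' h
  rw [List.mem_range] at he he'
  rw [← wcode_nword e he, ← wcode_nword e' he', h]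

theorem nwords_lt : ∀ w ∈ nwords, ∀ i ∈ w, i < 7 := by
  intro w hw i hi
  unfold nwords at hw
  rw [List.mem_map] at hw
  obtain ⟨e, _, rfl⟩ := hw
  exact List.mem_range.mp (List.mem_of_mem_filter hi)

theorem evalP_append_singleton {G : Type*} [Monoid G] (x : ℕ → G) (w : List ℕ) (i : ℕ) :
    evalP x (w ++ [i]) = evalP x w * x i := by
  rw [evalP_append, evalP_cons, evalP_nil, mul_one]

theorem closure_words {G : Type*} [Group G] [Finite G] (x : ℕ → G) (R : List Rel)
    (nw : List (List ℕ)) (n : ℕ) (cl : List (List (ℕ × ℕ)))
    (hR : ∀ r, evalP x (getR R r).1 = evalP x (getR R r).2)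
    (hnil : [] ∈ nw) (hcl : closeOK R nw n cl = true) :
    ∀ g ∈ Subgroup.closure (Set.range (fun i : Fin n => x i)), ∃ w ∈ nw, g = evalP x w := by
  unfold closeOK at hcl
  rw [allBelow_iff] at hcl
  -- the set of values
  set T : Set G := {g | ∃ w ∈ nw, g = evalP x w} with hT
  -- closed under right multiplication by the generators
  have step1 : ∀ t ∈ T, ∀ i < n, t * x i ∈ T := by
    rintro t ⟨w, hw, rfl⟩ i hi
    obtain ⟨j, hj, rfl⟩ := List.mem_iff_getElem.mp hw
    have hn : 0 < n := lt_of_le_of_lt (Nat.zero_le i) hi
    have hk : n * j + i < nw.length * n := by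
      have : n * (j + 1) ≤ n * nw.length := Nat.mul_le_mul_left n hj
      rw [Nat.mul_add, Nat.mul_one, Nat.mul_comm n nw.length] at this
      omega
    have hdiv : (n * j + i) / n = j := by
      rw [Nat.mul_add_div hn, Nat.div_eq_of_lt hi, add_zero]
    have hmod : (n * j + i) % n = i := by
      rw [Nat.mul_add_mod, Nat.mod_eq_of_lt hi]
    have h := hcl (n * j + i) hk
    rw [hdiv, hmod] at h
    have hget : nw.getD j [] = nw[j] := by
      rw [List.getD_eq_getElem?_getD, List.getElem?_eq_getElem hj]
      rfl
    rw [hget] at h
    cases hrun : runD R (nw[j] ++ [i]) (cl.getD (n * j + i) []) with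
    | none =>
      rw [hrun] at h
      exact absurd h (by simp)
    | some w' =>
      rw [hrun] at h
      change nw.any (fun v => eqB v w') = true at h
      rw [List.any_eq_true] at h
      obtain ⟨v, hv, hvw⟩ := h
      have hvw' : v = w' := Cfsg.Agent.Lib.Helper3.Fus.eqB_sound hvw
      subst hvw'
      have := deriv_eq_of_tails x R hR _ _ _ hrun
      rw [evalP_append_singleton] at this
      exact ⟨v, hv, this⟩
  -- the property of the elements of the closure
  have key : ∀ g ∈ Subgroup.closure (Set.range (fun i : Fin n => x i)), ∀ t ∈ T, t * g ∈ T := by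
    intro g hg
    induction hg using Subgroup.closure_induction with
    | mem g hg =>
      obtain ⟨i, rfl⟩ := hg
      intro t ht
      exact step1 t ht i i.2
    | one =>
      intro t ht
      rwa [mul_one]
    | mul a b _ _ iha ihb =>
      intro t ht
      rw [← mul_assoc]
      exact ihb _ (iha t ht)
    | inv a _ iha =>
      intro t ht
      -- right multiplication by `a` is an injective self-map of the finite set `T`
      let f : T → T := fun s => ⟨s.1 * a, iha s.1 s.2⟩
      have hinj : Function.Injective f := by
        intro s s' hss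
        have : s.1 * a = s'.1 * a := congrArg Subtype.val hss
        exact Subtype.ext (mul_right_cancel this)
      obtain ⟨s, hs⟩ := Finite.surjective_of_injective hinj ⟨t, ht⟩
      have hs' : s.1 * a = t := congrArg Subtype.val hs
      rw [← hs', mul_inv_cancel_right]
      exact s.2
  intro g hg
  have h1 : (1 : G) ∈ T := ⟨[], hnil, rfl⟩
  have := key g hg 1 h1
  rwa [one_mul] at this

end Cfsg.Agent.Lib.Helper4.M23H2Leaf
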