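import Mathlib
import Cfsg.Agent.Lib.Helper4.M23H2.LF1

set_option autoImplicit false

/-!
Leaf LB of `S2649` (helper10's market): the bridges between the products of conjugates
(`conjProd`, `foxProd`) in an extension and their symbolic vectors (`formD`, `foxForm`).
-/

namespace Cfsg.Agent.Lib.Helper4.M23H2Leaf

open Cfsg Cfsg.Agent.Lib.Helper3.Golay Cfsg.Agent.Lib.Helper10.M23H2

theorem pi_evalP {E : Type*} [Group E] (S : Setting E) (sig : ℕ → Equiv.Perm GolayPt)
    (y : ℕ → E) (hy : ∀ i, S.pi (y i) = sig i) (w : List ℕ) :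
    S.pi (evalP y w) = evalP sig w := by
  rw [evalP_map]
  congr 1
  funext i
  exact hy i

/-- the value of a conjugate of an element of the kernel with known value -/
theorem psi_conj_evalP {E : Type*} [Group E] (S : Setting E) (sig : ℕ → Equiv.Perm GolayPt)
    (y : ℕ → E) (hy : ∀ i, S.pi (y i) = sig i) (tinv : List ℕ)
    (htr : ∀ A p, traceI tinv A (idx p) = idx ((evalP sig A)⁻¹ p))
    (a : ℕ → ZMod 2) {nv : ℕ} (hnv : nv ≤ bw) (pre : List ℕ) (c : E) (sv : ℕ)
    (hcN : c ∈ S.N) (hcv : S.psi c = evalSV a nv sv) :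
    evalP y pre * c * (evalP y pre)⁻¹ ∈ S.N ∧
      S.psi (evalP y pre * c * (evalP y pre)⁻¹) = evalSV a nv (permB (traceI tinv pre) sv) := by
  refine ⟨S.conj_mem hcN _, ?_⟩
  rw [S.psi_conj _ c hcN, pi_evalP S sig y hy, hcv,
    evalSV_permB a hnv (traceI tinv pre) (⇑(evalP sig pre)⁻¹) (htr pre) sv]

theorem conjProd_nil {E : Type*} [Group E] (y : ℕ → E) (R : List Rel) (w : List ℕ) :
    conjProd y R w [] = 1 := by
  rw [conjProd]

theorem conjProd_cons_some {E : Type*} [Group E] (y : ℕ → E) (R : List Rel) (w : List ℕ)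
    (s : ℕ × ℕ) (ss : List (ℕ × ℕ)) (w' : List ℕ) (h : applyStep R w s = some w') :
    conjProd y R w (s :: ss) =
        evalP y (w.take s.1) * tailE y (getR R s.2) * (evalP y (w.take s.1))⁻¹ *
          conjProd y R w' ss := by
  rw [conjProd, h]

theorem conjProd_cons_none {E : Type*} [Group E] (y : ℕ → E) (R : List Rel) (w : List ℕ)
    (s : ℕ × ℕ) (ss : List (ℕ × ℕ)) (h : applyStep R w s = none) :
    conjProd y R w (s :: ss) = 1 := by
  rw [conjProd, h]

theorem formD_nil (tinv B0 : List ℕ) (dim : ℕ) (R : List Rel) (w : List ℕ) :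
    formD tinv B0 dim R w [] = 0 := by
  rw [formD]

theorem formD_cons_some (tinv B0 : List ℕ) (dim : ℕ) (R : List Rel) (w : List ℕ)
    (s : ℕ × ℕ) (ss : List (ℕ × ℕ)) (w' : List ℕ) (h : applyStep R w s = some w') :
    formD tinv B0 dim R w (s :: ss) =
        permB (traceI tinv (w.take s.1)) (tailB B0 dim s.2) ^^^ formD tinv B0 dim R w' ss := by
  rw [formD, h]

theorem formD_cons_none (tinv B0 : List ℕ) (dim : ℕ) (R : List Rel) (w : List ℕ)
    (s : ℕ × ℕ) (ss : List (ℕ × ℕ)) (h : applyStep R w s = none) :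
    formD tinv B0 dim R w (s :: ss) = 0 := by
  rw [formD, h]

theorem conj_bridge {E : Type*} [Group E] (S : Setting E) (sig : ℕ → Equiv.Perm GolayPt)
    (y : ℕ → E) (hy : ∀ i, S.pi (y i) = sig i) (tinv : List ℕ)
    (htr : ∀ A p, traceI tinv A (idx p) = idx ((evalP sig A)⁻¹ p))
    (a : ℕ → ZMod 2) {nv : ℕ} (hnv : nv ≤ bw) (B : List ℕ) (dim : ℕ) (R : List Rel)
    (hc : ∀ r, tailE y (getR R r) ∈ S.N ∧
      S.psi (tailE y (getR R r)) = evalSV a nv (tailB B dim r)) :
    ∀ (D : List (ℕ × ℕ)) (w : List ℕ), conjProd y R w D ∈ S.N ∧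
      S.psi (conjProd y R w D) = evalSV a nv (formD tinv B dim R w D) := by
  intro D
  induction D with
  | nil =>
    intro w
    rw [conjProd_nil, formD_nil, evalSV_zero]
    exact ⟨S.N.one_mem, S.psi_one⟩
  | cons s ss ih =>
    intro w
    cases hs : applyStep R w s with
    | none =>
      rw [conjProd_cons_none y R w s ss hs, formD_cons_none tinv B dim R w s ss hs, evalSV_zero]
      exact ⟨S.N.one_mem, S.psi_one⟩
    | some w' =>
      rw [conjProd_cons_some y R w s ss w' hs, formD_cons_some tinv B dim R w s ss w' hs]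
      obtain ⟨k1, k2⟩ := psi_conj_evalP S sig y hy tinv htr a hnv (w.take s.1)
        (tailE y (getR R s.2)) (tailB B dim s.2) (hc s.2).1 (hc s.2).2
      obtain ⟨i1, i2⟩ := ih w'
      refine ⟨S.N.mul_mem k1 i1, ?_⟩
      rw [S.psi_mul _ k1 _ i1, k2, i2, evalSV_xor]

theorem foxProd_nil {E : Type*} [Group E] (y m : ℕ → E) (pre : List ℕ) :
    foxProd y m pre [] = 1 := by
  rw [foxProd]

theorem foxProd_cons {E : Type*} [Group E] (y m : ℕ → E) (pre : List ℕ) (i : ℕ) (w : List ℕ) :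
    foxProd y m pre (i :: w) =
      evalP y pre * m i * (evalP y pre)⁻¹ * foxProd y m (pre ++ [i]) w := by
  rw [foxProd]

theorem foxForm_nil (tinv B0 : List ℕ) (dim : ℕ) (Sf : List (List ℕ)) (pre : List ℕ) :
    foxForm tinv B0 dim Sf pre [] = 0 := by
  rw [foxForm]

theorem foxForm_cons (tinv B0 : List ℕ) (dim : ℕ) (Sf : List (List ℕ)) (pre : List ℕ)
    (i : ℕ) (w : List ℕ) :
    foxForm tinv B0 dim Sf pre (i :: w) =
      permB (traceI tinv pre) (mB B0 dim Sf i) ^^^ foxForm tinv B0 dim Sf (pre ++ [i]) w := by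
  rw [foxForm]

theorem fox_bridge {E : Type*} [Group E] (S : Setting E) (sig : ℕ → Equiv.Perm GolayPt)
    (y : ℕ → E) (hy : ∀ i, S.pi (y i) = sig i) (tinv : List ℕ)
    (htr : ∀ A p, traceI tinv A (idx p) = idx ((evalP sig A)⁻¹ p))
    (a : ℕ → ZMod 2) {nv : ℕ} (hnv : nv ≤ bw) (B : List ℕ) (dim : ℕ) (Sf : List (List ℕ))
    (m : ℕ → E) (hm : ∀ i, m i ∈ S.N ∧ S.psi (m i) = evalSV a nv (mB B dim Sf i)) :
    ∀ (w pre : List ℕ), foxProd y m pre w ∈ S.N ∧
      S.psi (foxProd y m pre w) = evalSV a nv (foxForm tinv B dim Sf pre w) := by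
  intro w
  induction w with
  | nil =>
    intro pre
    rw [foxProd_nil, foxForm_nil, evalSV_zero]
    exact ⟨S.N.one_mem, S.psi_one⟩
  | cons i w ih =>
    intro pre
    rw [foxProd_cons, foxForm_cons]
    obtain ⟨k1, k2⟩ := psi_conj_evalP S sig y hy tinv htr a hnv pre (m i) (mB B dim Sf i)
      (hm i).1 (hm i).2
    obtain ⟨i1, i2⟩ := ih (pre ++ [i])
    refine ⟨S.N.mul_mem k1 i1, ?_⟩
    rw [S.psi_mul _ k1 _ i1, k2, i2, evalSV_xor]

end Cfsg.Agent.Lib.Helper4.M23H2Leaf
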