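import Mathlib
import Cfsg.Agent.Lib.Helper4.M23H2.LF1

set_option autoImplicit false

/-!
Leaf LF2 of `S2649` (helper10's market): soundness of the linear certificate `certOK` and the
translation between lists of symbolic vectors and the lists of their blocks.
-/

namespace Cfsg.Agent.Lib.Helper4.M23H2Leaf

open Cfsg Cfsg.Agent.Lib.Helper3.Golay Cfsg.Agent.Lib.Helper10.M23H2

theorem comboGaps_nil (hb : List ℕ) : comboGaps hb [] = 0 := by
  cases hb <;> rfl

theorem comboGaps_cons_nil (hb : List ℕ) (g : ℕ) (gs : List ℕ) (h : hb.drop g = []) :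
    comboGaps hb (g :: gs) = 0 := by
  rw [comboGaps, h]

theorem comboGaps_cons_cons (hb : List ℕ) (g : ℕ) (gs : List ℕ) (f : ℕ) (rest : List ℕ)
    (h : hb.drop g = f :: rest) :
    comboGaps hb (g :: gs) = f ^^^ comboGaps rest gs := by
  rw [comboGaps, h]

theorem val_comboGaps (a : ℕ → ZMod 2) (nv : ℕ) :
    ∀ (gs hb : List ℕ), (∀ f ∈ hb, val a nv f = 0) → val a nv (comboGaps hb gs) = 0 := by
  intro gs
  induction gs with
  | nil =>
    intro hb _
    rw [comboGaps_nil, val_zero]
  | cons g gs ih =>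
    intro hb h
    cases hd : hb.drop g with
    | nil =>
      rw [comboGaps_cons_nil hb g gs hd]
      exact val_zero a nv
    | cons f rest =>
      rw [comboGaps_cons_cons hb g gs f rest hd]
      have hsub : ∀ z ∈ f :: rest, z ∈ hb := by
        intro z hz
        rw [← hd] at hz
        exact List.mem_of_mem_drop hz
      rw [val_xor, h f (hsub f List.mem_cons_self),
        ih rest (fun z hz => h z (hsub z (List.mem_cons_of_mem f hz))), add_zero]

theorem certOK_sound (a : ℕ → ZMod 2) (nv : ℕ) {hyps concls : List ℕ} {cert : List (List ℕ)}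
    (h : certOK hyps concls cert = true) (hh : ∀ f ∈ hyps, val a nv f = 0) :
    ∀ c ∈ concls, val a nv c = 0 := by
  unfold certOK at h
  rw [Bool.and_eq_true] at h
  obtain ⟨h1, h2⟩ := h
  have hlen : concls.length = cert.length := Nat.eq_of_beq_eq_true h1
  rw [List.all_eq_true] at h2
  intro c hc
  obtain ⟨i, hi, rfl⟩ := List.mem_iff_getElem.mp hc
  have hi' : i < cert.length := hlen ▸ hi
  have hiz : i < (concls.zip cert).length := by
    rw [List.length_zip]
    exact lt_min hi hi'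
  have hmem : (concls[i], cert[i]) ∈ concls.zip cert := by
    have := List.getElem_mem hiz
    rwa [List.getElem_zip] at this
  have h3 := h2 _ hmem
  have h4 : comboGaps hyps cert[i] = concls[i] := Nat.eq_of_beq_eq_true h3
  rw [← h4]
  exact val_comboGaps a nv _ _ hh

theorem mem_blocks {l : List ℕ} {f : ℕ} :
    f ∈ blocks l ↔ ∃ sv ∈ l, ∃ q < 24, blk sv q = f := by
  unfold blocks
  rw [List.mem_flatMap]
  constructor
  · rintro ⟨sv, hsv, hf⟩
    rw [List.mem_map] at hf
    obtain ⟨q, hq, rfl⟩ := hf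
    exact ⟨sv, hsv, q, List.mem_range.mp hq, rfl⟩
  · rintro ⟨sv, hsv, q, hq, rfl⟩
    exact ⟨sv, hsv, List.mem_map.mpr ⟨q, List.mem_range.mpr hq, rfl⟩⟩

theorem blocks_val_zero (a : ℕ → ZMod 2) (nv : ℕ) {l : List ℕ}
    (h : ∀ sv ∈ l, evalSV a nv sv = 0) : ∀ f ∈ blocks l, val a nv f = 0 := by
  intro f hf
  obtain ⟨sv, hsv, q, hq, rfl⟩ := mem_blocks.mp hf
  have h1 := congrFun (h sv hsv) (pt q)
  rw [evalSV_apply, idx_pt hq] at h1
  exact h1

theorem evalSV_zero_of_blocks (a : ℕ → ZMod 2) (nv : ℕ) {l : List ℕ}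
    (h : ∀ f ∈ blocks l, val a nv f = 0) : ∀ sv ∈ l, evalSV a nv sv = 0 := by
  intro sv hsv
  funext p
  rw [evalSV_apply]
  exact h _ (mem_blocks.mpr ⟨sv, hsv, idx p, idx_lt p, rfl⟩)

end Cfsg.Agent.Lib.Helper4.M23H2Leaf
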