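import Mathlib
import Cfsg.Agent.Lib.Helper10.M23H2.Dual
import Cfsg.Agent.Lib.Helper4.M23H2.LF1

set_option autoImplicit false

/-!
Leaf D1 of `S2651` (helper10's market): the syndrome forms `synd`, `synds` and additivity of `val`
in the variables.
-/

namespace Cfsg.Agent.Lib.Helper4.M23H2Leaf

open Cfsg Cfsg.Agent.Lib.Helper3.Golay Cfsg.Agent.Lib.Helper10.M23H2

theorem val_synd (a : ℕ → ZMod 2) (nv b sv : ℕ) :
    val a nv (synd b sv) = dotM (evalSV a nv sv) b := by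
  unfold synd dotM
  rw [val_xorL_map_range]
  apply Finset.sum_congr rfl
  intro q hq
  have hq' : q < 24 := Finset.mem_range.mp hq
  cases b.testBit q with
  | false =>
    show val a nv 0 = _
    rw [val_zero]
    simp
  | true =>
    show val a nv (blk sv q) = _
    rw [if_pos rfl, evalSV_apply, idx_pt hq']

theorem mem_synds {Bs l : List ℕ} {f : ℕ} :
    f ∈ synds Bs l ↔ ∃ sv ∈ l, ∃ b ∈ Bs, synd b sv = f := by
  unfold synds
  rw [List.mem_flatMap]
  constructor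
  · rintro ⟨sv, hsv, hf⟩
    rw [List.mem_map] at hf
    obtain ⟨b, hb, rfl⟩ := hf
    exact ⟨sv, hsv, b, hb, rfl⟩
  · rintro ⟨sv, hsv, b, hb, rfl⟩
    exact ⟨sv, hsv, List.mem_map.mpr ⟨b, hb, rfl⟩⟩

theorem synds_val_zero (a : ℕ → ZMod 2) (nv : ℕ) {Bs l : List ℕ}
    (h : ∀ sv ∈ l, ∀ b ∈ Bs, dotM (evalSV a nv sv) b = 0) :
    ∀ f ∈ synds Bs l, val a nv f = 0 := by
  intro f hf
  obtain ⟨sv, hsv, b, hb, rfl⟩ := mem_synds.mp hf
  rw [val_synd]
  exact h sv hsv b hb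

theorem dot_zero_of_synds (a : ℕ → ZMod 2) (nv : ℕ) {Bs l : List ℕ}
    (h : ∀ f ∈ synds Bs l, val a nv f = 0) :
    ∀ sv ∈ l, ∀ b ∈ Bs, dotM (evalSV a nv sv) b = 0 := by
  intro sv hsv b hb
  rw [← val_synd]
  exact h _ (mem_synds.mpr ⟨sv, hsv, b, hb, rfl⟩)

theorem val_add (a a' : ℕ → ZMod 2) (nv f : ℕ) :
    val (fun k => a k + a' k) nv f = val a nv f + val a' nv f := by
  unfold val
  rw [← Finset.sum_add_distrib]
  apply Finset.sum_congr rfl
  intro i _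
  cases f.testBit i <;> simp

end Cfsg.Agent.Lib.Helper4.M23H2Leaf
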