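import Mathlib
import Cfsg.Agent.Lib.Helper10.M23H2.Dual
import Cfsg.Agent.Lib.Helper4.M23H2.LF1
import Cfsg.Agent.Lib.Helper4.M23H2.LB

set_option autoImplicit false

/-!
Leaf D4 of `S2651` (helper10's market): the bridges between the products of conjugates
(`conjProd`, `foxProd`) in an extension by the cocode module and their symbolic vectors.
-/

namespace Cfsg.Agent.Lib.Helper4.M23H2Leaf

open Cfsg Cfsg.Agent.Lib.Helper3.Golay Cfsg.Agent.Lib.Helper10.M23H2

theorem cpi_evalP {E : Type*} [Group E] (S : CSetting E) (sig : ℕ → Equiv.Perm GolayPt)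
    (y : ℕ → E) (hy : ∀ i, S.pi (y i) = sig i) (w : List ℕ) :
    S.pi (evalP y w) = evalP sig w := by
  rw [evalP_map]
  congr 1
  funext i
  exact hy i

/-- a conjugate of an element of the kernel with known representative -/
theorem theta_conj_evalP {E : Type*} [Group E] (S : CSetting E) (sig : ℕ → Equiv.Perm GolayPt)
    (y : ℕ → E) (hy : ∀ i, S.pi (y i) = sig i) (tinv : List ℕ)
    (htr : ∀ A p, traceI tinv A (idx p) = idx ((evalP sig A)⁻¹ p))
    (a : ℕ → ZMod 2) {nv : ℕ} (hnv : nv ≤ bw) (pre : List ℕ) (c : E) (sv : ℕ)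
    (hcv : S.theta (evalSV a nv sv) = c) :
    S.theta (evalSV a nv (permB (traceI tinv pre) sv)) =
      evalP y pre * c * (evalP y pre)⁻¹ := by
  rw [evalSV_permB a hnv (traceI tinv pre) (⇑(evalP sig pre)⁻¹) (htr pre) sv,
    ← cpi_evalP S sig y hy pre, S.theta_conj, hcv]

theorem conj_bridge2 {E : Type*} [Group E] (S : CSetting E) (sig : ℕ → Equiv.Perm GolayPt)
    (y : ℕ → E) (hy : ∀ i, S.pi (y i) = sig i) (tinv : List ℕ)
    (htr : ∀ A p, traceI tinv A (idx p) = idx ((evalP sig A)⁻¹ p))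
    (a : ℕ → ZMod 2) {nv : ℕ} (hnv : nv ≤ bw) (B : List ℕ) (dim : ℕ) (R : List Rel)
    (hc : ∀ r, S.theta (evalSV a nv (tailB B dim r)) = tailE y (getR R r)) :
    ∀ (D : List (ℕ × ℕ)) (w : List ℕ),
      S.theta (evalSV a nv (formD tinv B dim R w D)) = conjProd y R w D := by
  intro D
  induction D with
  | nil =>
    intro w
    rw [conjProd_nil, formD_nil, evalSV_zero, S.theta_zero]
  | cons s ss ih =>
    intro w
    cases hs : applyStep R w s with
    | none =>
      rw [conjProd_cons_none y R w s ss hs, formD_cons_none tinv B dim R w s ss hs, evalSV_zero,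
        S.theta_zero]
    | some w' =>
      rw [conjProd_cons_some y R w s ss w' hs, formD_cons_some tinv B dim R w s ss w' hs,
        evalSV_xor, S.theta_add, ih w',
        theta_conj_evalP S sig y hy tinv htr a hnv (w.take s.1) (tailE y (getR R s.2))
          (tailB B dim s.2) (hc s.2)]

theorem fox_bridge2 {E : Type*} [Group E] (S : CSetting E) (sig : ℕ → Equiv.Perm GolayPt)
    (y : ℕ → E) (hy : ∀ i, S.pi (y i) = sig i) (tinv : List ℕ)
    (htr : ∀ A p, traceI tinv A (idx p) = idx ((evalP sig A)⁻¹ p))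
    (a : ℕ → ZMod 2) {nv : ℕ} (hnv : nv ≤ bw) (B : List ℕ) (dim : ℕ) (Sf : List (List ℕ))
    (m : ℕ → E) (hm : ∀ i, S.theta (evalSV a nv (mB B dim Sf i)) = m i) :
    ∀ (w pre : List ℕ),
      S.theta (evalSV a nv (foxForm tinv B dim Sf pre w)) = foxProd y m pre w := by
  intro w
  induction w with
  | nil =>
    intro pre
    rw [foxProd_nil, foxForm_nil, evalSV_zero, S.theta_zero]
  | cons i w ih =>
    intro pre
    rw [foxProd_cons, foxForm_cons, evalSV_xor, S.theta_add, ih (pre ++ [i]),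
      theta_conj_evalP S sig y hy tinv htr a hnv pre (m i) (mB B dim Sf i) (hm i)]

end Cfsg.Agent.Lib.Helper4.M23H2Leaf
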